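import Cfsg.Agent.StdM.ModD

/-!
# Standard subgroups of type `M₂₄`: the computed facts in an abstract copy
-/

set_option autoImplicit false
set_option maxRecDepth 100000
set_option linter.unusedSectionVars false
set_option linter.unusedSimpArgs false

namespace Cfsg.Lib.StdM.M24

open Subgroup Cfsg.Lib.Spor Cfsg.Lib.Spor.Bulk Cfsg.Lib.Spor.PK Cfsg.Lib.Spor.WF
open Cfsg.Lib.Gold Cfsg.Lib.Trans Cfsg.Lib.StdSz Cfsg.Lib.StdW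
open scoped commutatorElement

variable {G : Type*} [Group G] [Finite G] {g : ℕ → G}

theorem fa_T {P : ℕ → Prop} : (∀ l ∈ lT, P l) ↔ P 1 ∧ P 2 ∧ P 3 ∧ P 4 := by simp [lT]

theorem fa_V {P : ℕ → Prop} : (∀ l ∈ lV, P l) ↔ P 5 ∧ P 6 ∧ P 7 ∧ P 8 ∧ P 9 ∧ P 10 := by simp [lV]

theorem fa_W {P : ℕ → Prop} : (∀ l ∈ lW, P l) ↔ P 5 ∧ P 6 ∧ P 11 ∧ P 12 ∧ P 8 ∧ P 13 := by simp [lW]

theorem sA (he : Emb M.m g) :
    (g 5 * g 5 = 1) ∧ (g 5 ≠ 1) ∧ (g 35 * g 35 = 1) ∧ (g 35 ≠ 1) ∧ (g 29 * g 35 = g 35 * g 5 * g 29) ∧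
    (g 6 ≠ g 5) ∧ (g 115 * g 116 * g 119 * g 120 * g 117 * g 116 * g 115 * g 120 * g 119 * g 121 * g
    118 * g 117 * g 115 * g 116 * g 119 * g 120 * g 121 * g 116 * g 115 * g 120 * g 119 * g 122 = g
    5) ∧ ((g 115 * g 119 = 1) ∧ ((g 116 * g 120 = 1) ∧ ((g 117 * g 121 = 1) ∧ (g 118 * g 122 = 1))))
    ∧ (g 123 * g 41 = g 5 * g 41 * g 123) ∧ (g 124 * g 41 * g 124 * g 41 * g 125 * g 74 * g 125 * g
    74 = g 35) ∧ (g 26 * g 26 * g 26 * g 26 * g 26 * g 26 * g 26 = 1) ∧ (g 27 * g 27 * g 27 = 1) ∧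
    (g 59 ≠ 1) ∧ (g 59 ≠ g 5) ∧ (g 60 * g 5 = g 59 * g 60) ∧ (g 20 * g 5 = g 5 * g 20) ∧ (g 21 * g 5
    = g 5 * g 21) ∧ ((g 105 * g 14 = g 14 * g 105) ∧ ((g 105 * g 14 = g 14 * g 105) ∧ ((g 105 * g
    105 ≠ 1) ∧ (g 105 * g 105 ≠ 1)))) ∧ ((g 106 * g 2 = g 2 * g 106) ∧ ((g 107 * g 2 = g 2 * g 107)
    ∧ ((g 106 * g 106 ≠ 1) ∧ ((g 107 * g 107 ≠ 1) ∧ (g 106 * g 107 * g 106 * g 107 ≠ 1))))) ∧ ((g
    108 * g 15 = g 15 * g 108) ∧ ((g 109 * g 15 = g 15 * g 109) ∧ ((g 108 * g 108 ≠ 1) ∧ ((g 109 * g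
    109 ≠ 1) ∧ (g 108 * g 109 * g 108 * g 109 ≠ 1))))) ∧ ((g 110 * g 16 = g 16 * g 110) ∧ ((g 105 *
    g 16 = g 16 * g 105) ∧ ((g 110 * g 110 ≠ 1) ∧ ((g 105 * g 105 ≠ 1) ∧ (g 110 * g 105 * g 110 * g
    105 ≠ 1))))) ∧ ((g 111 * g 17 = g 17 * g 111) ∧ ((g 111 * g 17 = g 17 * g 111) ∧ ((g 111 * g 111
    ≠ 1) ∧ (g 111 * g 111 ≠ 1)))) ∧ ((g 112 * g 18 = g 18 * g 112) ∧ ((g 112 * g 18 = g 18 * g 112)
    ∧ ((g 112 * g 112 ≠ 1) ∧ (g 112 * g 112 ≠ 1)))) ∧ ((g 113 * g 19 = g 19 * g 113) ∧ ((g 114 * g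
    19 = g 19 * g 114) ∧ ((g 113 * g 113 ≠ 1) ∧ ((g 114 * g 114 ≠ 1) ∧ (g 113 * g 114 * g 113 * g
    114 ≠ 1))))) := by
  have h := PM.holds ok subs he dA
  simp only [fA, Fm.sem, wv_cons, wv_nil, one_mul, upd_apply, Nat.reduceEqDiff, ↓reduceIte,
    exists_eq_right] at h
  exact h

theorem z2 (he : Emb M.m g) :
    g 5 * g 5 = 1 := (sA he).1

theorem z1 (he : Emb M.m g) :
    g 5 ≠ 1 := (sA he).2.1

theorem y2 (he : Emb M.m g) :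
    g 35 * g 35 = 1 := (sA he).2.2.1

theorem y1 (he : Emb M.m g) :
    g 35 ≠ 1 := (sA he).2.2.2.1

theorem cyz (he : Emb M.m g) :
    g 29 * g 35 = g 35 * g 5 * g 29 := (sA he).2.2.2.2.1

theorem xz (he : Emb M.m g) :
    g 6 ≠ g 5 := (sA he).2.2.2.2.2.1

theorem zy4 (he : Emb M.m g) :
    g 115 * g 116 * g 119 * g 120 * g 117 * g 116 * g 115 * g 120 * g 119 * g 121 * g 118 * g 117 * g
    115 * g 116 * g 119 * g 120 * g 121 * g 116 * g 115 * g 120 * g 119 * g 122 = g 5 := (sA he).2.2.2.2.2.2.1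

theorem zyi (he : Emb M.m g) :
    (g 115 * g 119 = 1) ∧ ((g 116 * g 120 = 1) ∧ ((g 117 * g 121 = 1) ∧ (g 118 * g 122 = 1))) := (sA he).2.2.2.2.2.2.2.1

theorem czz (he : Emb M.m g) :
    g 123 * g 41 = g 5 * g 41 * g 123 := (sA he).2.2.2.2.2.2.2.2.1

theorem cyy (he : Emb M.m g) :
    g 124 * g 41 * g 124 * g 41 * g 125 * g 74 * g 125 * g 74 = g 35 := (sA he).2.2.2.2.2.2.2.2.2.1

theorem r7 (he : Emb M.m g) :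
    g 26 * g 26 * g 26 * g 26 * g 26 * g 26 * g 26 = 1 := (sA he).2.2.2.2.2.2.2.2.2.2.1

theorem s3 (he : Emb M.m g) :
    g 27 * g 27 * g 27 = 1 := (sA he).2.2.2.2.2.2.2.2.2.2.2.1

theorem b1 (he : Emb M.m g) :
    g 59 ≠ 1 := (sA he).2.2.2.2.2.2.2.2.2.2.2.2.1

theorem bz (he : Emb M.m g) :
    g 59 ≠ g 5 := (sA he).2.2.2.2.2.2.2.2.2.2.2.2.2.1

theorem mV (he : Emb M.m g) :
    g 60 * g 5 = g 59 * g 60 := (sA he).2.2.2.2.2.2.2.2.2.2.2.2.2.2.1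

theorem dWz (he : Emb M.m g) :
    g 20 * g 5 = g 5 * g 20 := (sA he).2.2.2.2.2.2.2.2.2.2.2.2.2.2.2.1

theorem dNz (he : Emb M.m g) :
    g 21 * g 5 = g 5 * g 21 := (sA he).2.2.2.2.2.2.2.2.2.2.2.2.2.2.2.2.1

theorem ab0 (he : Emb M.m g) :
    (g 105 * g 14 = g 14 * g 105) ∧ ((g 105 * g 14 = g 14 * g 105) ∧ ((g 105 * g 105 ≠ 1) ∧ (g 105 * g
    105 ≠ 1))) := (sA he).2.2.2.2.2.2.2.2.2.2.2.2.2.2.2.2.2.1

theorem ab1 (he : Emb M.m g) :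
    (g 106 * g 2 = g 2 * g 106) ∧ ((g 107 * g 2 = g 2 * g 107) ∧ ((g 106 * g 106 ≠ 1) ∧ ((g 107 * g 107
    ≠ 1) ∧ (g 106 * g 107 * g 106 * g 107 ≠ 1)))) := (sA he).2.2.2.2.2.2.2.2.2.2.2.2.2.2.2.2.2.2.1

theorem ab2 (he : Emb M.m g) :
    (g 108 * g 15 = g 15 * g 108) ∧ ((g 109 * g 15 = g 15 * g 109) ∧ ((g 108 * g 108 ≠ 1) ∧ ((g 109 * g
    109 ≠ 1) ∧ (g 108 * g 109 * g 108 * g 109 ≠ 1)))) := (sA he).2.2.2.2.2.2.2.2.2.2.2.2.2.2.2.2.2.2.2.1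

theorem ab3 (he : Emb M.m g) :
    (g 110 * g 16 = g 16 * g 110) ∧ ((g 105 * g 16 = g 16 * g 105) ∧ ((g 110 * g 110 ≠ 1) ∧ ((g 105 * g
    105 ≠ 1) ∧ (g 110 * g 105 * g 110 * g 105 ≠ 1)))) := (sA he).2.2.2.2.2.2.2.2.2.2.2.2.2.2.2.2.2.2.2.2.1

theorem ab4 (he : Emb M.m g) :
    (g 111 * g 17 = g 17 * g 111) ∧ ((g 111 * g 17 = g 17 * g 111) ∧ ((g 111 * g 111 ≠ 1) ∧ (g 111 * g
    111 ≠ 1))) := (sA he).2.2.2.2.2.2.2.2.2.2.2.2.2.2.2.2.2.2.2.2.2.1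

theorem ab5 (he : Emb M.m g) :
    (g 112 * g 18 = g 18 * g 112) ∧ ((g 112 * g 18 = g 18 * g 112) ∧ ((g 112 * g 112 ≠ 1) ∧ (g 112 * g
    112 ≠ 1))) := (sA he).2.2.2.2.2.2.2.2.2.2.2.2.2.2.2.2.2.2.2.2.2.2.1

theorem ab6 (he : Emb M.m g) :
    (g 113 * g 19 = g 19 * g 113) ∧ ((g 114 * g 19 = g 19 * g 114) ∧ ((g 113 * g 113 ≠ 1) ∧ ((g 114 * g
    114 ≠ 1) ∧ (g 113 * g 114 * g 113 * g 114 ≠ 1)))) := (sA he).2.2.2.2.2.2.2.2.2.2.2.2.2.2.2.2.2.2.2.2.2.2.2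

theorem sB (he : Emb M.m g) :
    (g 5 * g 40 = g 40 * g 5) ∧ (g 5 * g 6 = g 6 * g 5) ∧ (g 40 * g 6 = g 6 * g 40) ∧ ((g 46 * g 5 = g
    40 * g 46) ∧ (g 46 * g 40 = g 5 * g 40 * g 46)) ∧ ((g 48 * g 5 = g 5 * g 40 * g 48) ∧ (g 48 * g
    40 = g 41 * g 48)) ∧ ((g 49 * g 5 = g 40 * g 49) ∧ (g 49 * g 40 = g 41 * g 49)) ∧ ((g 50 * g 5 =
    g 5 * g 50) ∧ (g 50 * g 40 = g 40 * g 41 * g 50)) ∧ (g 41 ≠ g 5) ∧ ((g 47 * g 5 = g 6 * g 47) ∧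
    (g 47 * g 6 = g 5 * g 6 * g 47)) ∧ ((g 47 * g 5 = g 6 * g 47) ∧ (g 47 * g 40 = g 42 * g 47)) ∧
    (g 43 * g 40 = g 40 * g 43) ∧ (g 43 * g 6 = g 6 * g 42 * g 43) ∧ (g 44 * g 40 = g 40 * g 44) ∧
    (g 44 * g 6 = g 42 * g 44) ∧ (g 45 * g 40 = g 6 * g 45) ∧ (g 45 * g 6 = g 40 * g 45) ∧ (g 44 * g
    62 = 1) ∧ ((g 51 * g 40 = g 40 * g 51) ∧ (g 51 * g 6 = g 5 * g 6 * g 51)) ∧ (g 52 * g 40 = g 36
    * g 52) ∧ (g 52 * g 6 = g 61 * g 52) ∧ (g 40 * g 6 = g 63) ∧ (g 52 * g 63 = g 63 * g 52) ∧ (g 63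
    ≠ 1) ∧ (g 63 * g 63 = 1) ∧ ((g 53 * g 5 = g 6 * g 53) ∧ (g 53 * g 6 = g 61 * g 53)) ∧ ((g 54 * g
    5 = g 29 * g 54) ∧ (g 54 * g 40 = g 40 * g 54)) ∧ (g 29 * g 36 = g 36 * g 40 * g 29) ∧ ((g 56 *
    g 29 = g 29 * g 56) ∧ (g 56 * g 36 = g 55 * g 56)) ∧ ((g 57 * g 29 = g 29 * g 57) ∧ (g 57 * g 36
    = g 36 * g 55 * g 57)) ∧ ((g 58 * g 40 = g 36 * g 58) ∧ (g 58 * g 36 = g 55 * g 58)) ∧ (g 36 * g
    40 = g 64) ∧ (g 29 * g 55 = g 65 * g 29) ∧ (g 64 ≠ 1) ∧ (g 64 * g 64 = 1) ∧ ((g 45 * g 40 = g 6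
    * g 45) ∧ (g 45 * g 6 = g 40 * g 45)) ∧ ((g 81 * g 40 = g 40 * g 5 * g 81) ∧ (g 81 * g 6 = g 5 *
    g 6 * g 81)) ∧ ((g 82 * g 40 = g 40 * g 82) ∧ (g 82 * g 6 = g 6 * g 82)) ∧ ((g 83 * g 40 = g 40
    * g 83) ∧ (g 83 * g 6 = g 6 * g 83)) ∧ ((g 84 * g 40 = g 40 * g 84) ∧ (g 84 * g 6 = g 6 * g 84))
    ∧ ((g 85 * g 40 = g 40 * g 85) ∧ (g 85 * g 6 = g 6 * g 85)) ∧ ((g 52 * g 45 = g 86 * g 52) ∧ ((g
    52 * g 81 = g 87 * g 52) ∧ ((g 52 * g 82 = g 88 * g 52) ∧ ((g 52 * g 83 = g 89 * g 52) ∧ ((g 52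
    * g 84 = g 90 * g 52) ∧ (g 52 * g 85 = g 91 * g 52)))))) ∧ ((g 52 * g 97 = g 92 * g 52) ∧ ((g 52
    * g 98 = g 93 * g 52) ∧ ((g 52 * g 99 = g 94 * g 52) ∧ ((g 52 * g 100 = g 95 * g 52) ∧ (g 52 * g
    101 = g 96 * g 52))))) ∧ ((g 143 * g 29 = g 29 * g 143) ∧ (g 143 * g 36 = g 36 * g 143)) ∧ ((g
    144 * g 29 = g 29 * g 144) ∧ (g 144 * g 36 = g 37 * g 144)) ∧ ((g 145 * g 29 = g 38 * g 145) ∧
    (g 145 * g 36 = g 29 * g 145)) ∧ ((g 146 * g 29 = g 39 * g 146) ∧ (g 146 * g 36 = g 29 * g 146))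
    ∧ ((g 147 * g 29 = g 37 * g 147) ∧ (g 147 * g 36 = g 36 * g 147)) ∧ ((g 148 * g 29 = g 36 * g
    148) ∧ (g 148 * g 36 = g 38 * g 148)) ∧ ((g 149 * g 29 = g 36 * g 149) ∧ (g 149 * g 36 = g 39 *
    g 149)) ∧ ((g 150 * g 29 = g 38 * g 150) ∧ (g 150 * g 36 = g 37 * g 150)) ∧ ((g 151 * g 29 = g
    37 * g 151) ∧ (g 151 * g 36 = g 39 * g 151)) ∧ ((g 152 * g 29 = g 38 * g 152) ∧ (g 152 * g 36 =
    g 39 * g 152)) := by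
  have h := PM.holds ok subs he dB
  simp only [fB, Fm.sem, wv_cons, wv_nil, one_mul, upd_apply, Nat.reduceEqDiff, ↓reduceIte,
    exists_eq_right] at h
  exact h

theorem zp (he : Emb M.m g) :
    g 5 * g 40 = g 40 * g 5 := (sB he).1

theorem zr (he : Emb M.m g) :
    g 5 * g 6 = g 6 * g 5 := (sB he).2.1

theorem pr (he : Emb M.m g) :
    g 40 * g 6 = g 6 * g 40 := (sB he).2.2.1

theorem tri1 (he : Emb M.m g) :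
    (g 46 * g 5 = g 40 * g 46) ∧ (g 46 * g 40 = g 5 * g 40 * g 46) := (sB he).2.2.2.1

theorem d1 (he : Emb M.m g) :
    (g 48 * g 5 = g 5 * g 40 * g 48) ∧ (g 48 * g 40 = g 41 * g 48) := (sB he).2.2.2.2.1

theorem d2 (he : Emb M.m g) :
    (g 49 * g 5 = g 40 * g 49) ∧ (g 49 * g 40 = g 41 * g 49) := (sB he).2.2.2.2.2.1

theorem d3 (he : Emb M.m g) :
    (g 50 * g 5 = g 5 * g 50) ∧ (g 50 * g 40 = g 40 * g 41 * g 50) := (sB he).2.2.2.2.2.2.1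

theorem dz (he : Emb M.m g) :
    g 41 ≠ g 5 := (sB he).2.2.2.2.2.2.2.1

theorem tri2 (he : Emb M.m g) :
    (g 47 * g 5 = g 6 * g 47) ∧ (g 47 * g 6 = g 5 * g 6 * g 47) := (sB he).2.2.2.2.2.2.2.2.1

theorem rr (he : Emb M.m g) :
    (g 47 * g 5 = g 6 * g 47) ∧ (g 47 * g 40 = g 42 * g 47) := (sB he).2.2.2.2.2.2.2.2.2.1

theorem n1p (he : Emb M.m g) :
    g 43 * g 40 = g 40 * g 43 := (sB he).2.2.2.2.2.2.2.2.2.2.1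

theorem n1r (he : Emb M.m g) :
    g 43 * g 6 = g 6 * g 42 * g 43 := (sB he).2.2.2.2.2.2.2.2.2.2.2.1

theorem n2p (he : Emb M.m g) :
    g 44 * g 40 = g 40 * g 44 := (sB he).2.2.2.2.2.2.2.2.2.2.2.2.1

theorem n2r (he : Emb M.m g) :
    g 44 * g 6 = g 42 * g 44 := (sB he).2.2.2.2.2.2.2.2.2.2.2.2.2.1

theorem sp (he : Emb M.m g) :
    g 45 * g 40 = g 6 * g 45 := (sB he).2.2.2.2.2.2.2.2.2.2.2.2.2.2.1

theorem sr (he : Emb M.m g) :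
    g 45 * g 6 = g 40 * g 45 := (sB he).2.2.2.2.2.2.2.2.2.2.2.2.2.2.2.1

theorem n2i (he : Emb M.m g) :
    g 44 * g 62 = 1 := (sB he).2.2.2.2.2.2.2.2.2.2.2.2.2.2.2.2.1

theorem pzr (he : Emb M.m g) :
    (g 51 * g 40 = g 40 * g 51) ∧ (g 51 * g 6 = g 5 * g 6 * g 51) := (sB he).2.2.2.2.2.2.2.2.2.2.2.2.2.2.2.2.2.1

theorem hq (he : Emb M.m g) :
    g 52 * g 40 = g 36 * g 52 := (sB he).2.2.2.2.2.2.2.2.2.2.2.2.2.2.2.2.2.2.1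

theorem hq1 (he : Emb M.m g) :
    g 52 * g 6 = g 61 * g 52 := (sB he).2.2.2.2.2.2.2.2.2.2.2.2.2.2.2.2.2.2.2.1

theorem hpr (he : Emb M.m g) :
    g 40 * g 6 = g 63 := (sB he).2.2.2.2.2.2.2.2.2.2.2.2.2.2.2.2.2.2.2.2.1

theorem gy (he : Emb M.m g) :
    g 52 * g 63 = g 63 * g 52 := (sB he).2.2.2.2.2.2.2.2.2.2.2.2.2.2.2.2.2.2.2.2.2.1

theorem pr1 (he : Emb M.m g) :
    g 63 ≠ 1 := (sB he).2.2.2.2.2.2.2.2.2.2.2.2.2.2.2.2.2.2.2.2.2.2.1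

theorem pr2 (he : Emb M.m g) :
    g 63 * g 63 = 1 := (sB he).2.2.2.2.2.2.2.2.2.2.2.2.2.2.2.2.2.2.2.2.2.2.2.1

theorem mq (he : Emb M.m g) :
    (g 53 * g 5 = g 6 * g 53) ∧ (g 53 * g 6 = g 61 * g 53) := (sB he).2.2.2.2.2.2.2.2.2.2.2.2.2.2.2.2.2.2.2.2.2.2.2.2.1

theorem ap (he : Emb M.m g) :
    (g 54 * g 5 = g 29 * g 54) ∧ (g 54 * g 40 = g 40 * g 54) := (sB he).2.2.2.2.2.2.2.2.2.2.2.2.2.2.2.2.2.2.2.2.2.2.2.2.2.1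

theorem aq (he : Emb M.m g) :
    g 29 * g 36 = g 36 * g 40 * g 29 := (sB he).2.2.2.2.2.2.2.2.2.2.2.2.2.2.2.2.2.2.2.2.2.2.2.2.2.2.1

theorem cb1 (he : Emb M.m g) :
    (g 56 * g 29 = g 29 * g 56) ∧ (g 56 * g 36 = g 55 * g 56) := (sB he).2.2.2.2.2.2.2.2.2.2.2.2.2.2.2.2.2.2.2.2.2.2.2.2.2.2.2.1

theorem cb2 (he : Emb M.m g) :
    (g 57 * g 29 = g 29 * g 57) ∧ (g 57 * g 36 = g 36 * g 55 * g 57) := (sB he).2.2.2.2.2.2.2.2.2.2.2.2.2.2.2.2.2.2.2.2.2.2.2.2.2.2.2.2.1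

theorem cb3 (he : Emb M.m g) :
    (g 58 * g 40 = g 36 * g 58) ∧ (g 58 * g 36 = g 55 * g 58) := (sB he).2.2.2.2.2.2.2.2.2.2.2.2.2.2.2.2.2.2.2.2.2.2.2.2.2.2.2.2.2.1

theorem hqp (he : Emb M.m g) :
    g 36 * g 40 = g 64 := (sB he).2.2.2.2.2.2.2.2.2.2.2.2.2.2.2.2.2.2.2.2.2.2.2.2.2.2.2.2.2.2.1

theorem haba (he : Emb M.m g) :
    g 29 * g 55 = g 65 * g 29 := (sB he).2.2.2.2.2.2.2.2.2.2.2.2.2.2.2.2.2.2.2.2.2.2.2.2.2.2.2.2.2.2.2.1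

theorem qp1 (he : Emb M.m g) :
    g 64 ≠ 1 := (sB he).2.2.2.2.2.2.2.2.2.2.2.2.2.2.2.2.2.2.2.2.2.2.2.2.2.2.2.2.2.2.2.2.1

theorem qp2 (he : Emb M.m g) :
    g 64 * g 64 = 1 := (sB he).2.2.2.2.2.2.2.2.2.2.2.2.2.2.2.2.2.2.2.2.2.2.2.2.2.2.2.2.2.2.2.2.2.1

theorem y0 (he : Emb M.m g) :
    (g 45 * g 40 = g 6 * g 45) ∧ (g 45 * g 6 = g 40 * g 45) := (sB he).2.2.2.2.2.2.2.2.2.2.2.2.2.2.2.2.2.2.2.2.2.2.2.2.2.2.2.2.2.2.2.2.2.2.1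

theorem y1n (he : Emb M.m g) :
    (g 81 * g 40 = g 40 * g 5 * g 81) ∧ (g 81 * g 6 = g 5 * g 6 * g 81) := (sB he).2.2.2.2.2.2.2.2.2.2.2.2.2.2.2.2.2.2.2.2.2.2.2.2.2.2.2.2.2.2.2.2.2.2.2.1

theorem y2n (he : Emb M.m g) :
    (g 82 * g 40 = g 40 * g 82) ∧ (g 82 * g 6 = g 6 * g 82) := (sB he).2.2.2.2.2.2.2.2.2.2.2.2.2.2.2.2.2.2.2.2.2.2.2.2.2.2.2.2.2.2.2.2.2.2.2.2.1

theorem y3n (he : Emb M.m g) :
    (g 83 * g 40 = g 40 * g 83) ∧ (g 83 * g 6 = g 6 * g 83) := (sB he).2.2.2.2.2.2.2.2.2.2.2.2.2.2.2.2.2.2.2.2.2.2.2.2.2.2.2.2.2.2.2.2.2.2.2.2.2.1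

theorem y4n (he : Emb M.m g) :
    (g 84 * g 40 = g 40 * g 84) ∧ (g 84 * g 6 = g 6 * g 84) := (sB he).2.2.2.2.2.2.2.2.2.2.2.2.2.2.2.2.2.2.2.2.2.2.2.2.2.2.2.2.2.2.2.2.2.2.2.2.2.2.1

theorem y5n (he : Emb M.m g) :
    (g 85 * g 40 = g 40 * g 85) ∧ (g 85 * g 6 = g 6 * g 85) := (sB he).2.2.2.2.2.2.2.2.2.2.2.2.2.2.2.2.2.2.2.2.2.2.2.2.2.2.2.2.2.2.2.2.2.2.2.2.2.2.2.1

theorem yg (he : Emb M.m g) :
    (g 52 * g 45 = g 86 * g 52) ∧ ((g 52 * g 81 = g 87 * g 52) ∧ ((g 52 * g 82 = g 88 * g 52) ∧ ((g 52 *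
    g 83 = g 89 * g 52) ∧ ((g 52 * g 84 = g 90 * g 52) ∧ (g 52 * g 85 = g 91 * g 52))))) := (sB he).2.2.2.2.2.2.2.2.2.2.2.2.2.2.2.2.2.2.2.2.2.2.2.2.2.2.2.2.2.2.2.2.2.2.2.2.2.2.2.2.1

theorem yi (he : Emb M.m g) :
    (g 52 * g 97 = g 92 * g 52) ∧ ((g 52 * g 98 = g 93 * g 52) ∧ ((g 52 * g 99 = g 94 * g 52) ∧ ((g 52 *
    g 100 = g 95 * g 52) ∧ (g 52 * g 101 = g 96 * g 52)))) := (sB he).2.2.2.2.2.2.2.2.2.2.2.2.2.2.2.2.2.2.2.2.2.2.2.2.2.2.2.2.2.2.2.2.2.2.2.2.2.2.2.2.2.1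

theorem j01 (he : Emb M.m g) :
    (g 143 * g 29 = g 29 * g 143) ∧ (g 143 * g 36 = g 36 * g 143) := (sB he).2.2.2.2.2.2.2.2.2.2.2.2.2.2.2.2.2.2.2.2.2.2.2.2.2.2.2.2.2.2.2.2.2.2.2.2.2.2.2.2.2.2.1

theorem j02 (he : Emb M.m g) :
    (g 144 * g 29 = g 29 * g 144) ∧ (g 144 * g 36 = g 37 * g 144) := (sB he).2.2.2.2.2.2.2.2.2.2.2.2.2.2.2.2.2.2.2.2.2.2.2.2.2.2.2.2.2.2.2.2.2.2.2.2.2.2.2.2.2.2.2.1

theorem j30 (he : Emb M.m g) :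
    (g 145 * g 29 = g 38 * g 145) ∧ (g 145 * g 36 = g 29 * g 145) := (sB he).2.2.2.2.2.2.2.2.2.2.2.2.2.2.2.2.2.2.2.2.2.2.2.2.2.2.2.2.2.2.2.2.2.2.2.2.2.2.2.2.2.2.2.2.1

theorem j40 (he : Emb M.m g) :
    (g 146 * g 29 = g 39 * g 146) ∧ (g 146 * g 36 = g 29 * g 146) := (sB he).2.2.2.2.2.2.2.2.2.2.2.2.2.2.2.2.2.2.2.2.2.2.2.2.2.2.2.2.2.2.2.2.2.2.2.2.2.2.2.2.2.2.2.2.2.1

theorem j21 (he : Emb M.m g) :
    (g 147 * g 29 = g 37 * g 147) ∧ (g 147 * g 36 = g 36 * g 147) := (sB he).2.2.2.2.2.2.2.2.2.2.2.2.2.2.2.2.2.2.2.2.2.2.2.2.2.2.2.2.2.2.2.2.2.2.2.2.2.2.2.2.2.2.2.2.2.2.1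

theorem j13 (he : Emb M.m g) :
    (g 148 * g 29 = g 36 * g 148) ∧ (g 148 * g 36 = g 38 * g 148) := (sB he).2.2.2.2.2.2.2.2.2.2.2.2.2.2.2.2.2.2.2.2.2.2.2.2.2.2.2.2.2.2.2.2.2.2.2.2.2.2.2.2.2.2.2.2.2.2.2.1

theorem j14 (he : Emb M.m g) :
    (g 149 * g 29 = g 36 * g 149) ∧ (g 149 * g 36 = g 39 * g 149) := (sB he).2.2.2.2.2.2.2.2.2.2.2.2.2.2.2.2.2.2.2.2.2.2.2.2.2.2.2.2.2.2.2.2.2.2.2.2.2.2.2.2.2.2.2.2.2.2.2.2.1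

theorem j32 (he : Emb M.m g) :
    (g 150 * g 29 = g 38 * g 150) ∧ (g 150 * g 36 = g 37 * g 150) := (sB he).2.2.2.2.2.2.2.2.2.2.2.2.2.2.2.2.2.2.2.2.2.2.2.2.2.2.2.2.2.2.2.2.2.2.2.2.2.2.2.2.2.2.2.2.2.2.2.2.2.1

theorem j24 (he : Emb M.m g) :
    (g 151 * g 29 = g 37 * g 151) ∧ (g 151 * g 36 = g 39 * g 151) := (sB he).2.2.2.2.2.2.2.2.2.2.2.2.2.2.2.2.2.2.2.2.2.2.2.2.2.2.2.2.2.2.2.2.2.2.2.2.2.2.2.2.2.2.2.2.2.2.2.2.2.2.1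

theorem j34 (he : Emb M.m g) :
    (g 152 * g 29 = g 38 * g 152) ∧ (g 152 * g 36 = g 39 * g 152) := (sB he).2.2.2.2.2.2.2.2.2.2.2.2.2.2.2.2.2.2.2.2.2.2.2.2.2.2.2.2.2.2.2.2.2.2.2.2.2.2.2.2.2.2.2.2.2.2.2.2.2.2.2

theorem sC (he : Emb M.m g) :
    (∀ A ∈ sb g lV, A * A = 1) ∧ (∀ A ∈ sb g lW, A * A = 1) ∧ (∀ A ∈ sb g lU, A * A = 1) ∧ (∀ A ∈ sb g
    lZ, (A = 1) ∨ (A = g 5)) ∧ (g 5 ∈ sb g lU) ∧ (g 59 ∈ sb g lU) ∧ (g 26 * g 27 * g 26 * g 27 * g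
    26 * g 27 * g 26 * g 27 * g 26 * g 27 * g 26 * g 27 ∈ sb g lU) ∧ (g 26 * g 27 * g 27 * g 26 * g
    27 * g 27 * g 26 * g 27 * g 27 * g 26 * g 27 * g 27 ∈ sb g lU) ∧ (∀ A ∈ sb g lU, (A ∈ sb g lV) →
    (A ∈ sb g lW)) ∧ ((g 30 ∈ sb g lU) ∧ ((g 30 ∈ sb g lW) ∧ (¬ (g 30 ∈ sb g lV)))) ∧ (∀ A ∈ sb g
    lZp, (A = 1) ∨ ((A = g 5) ∨ ((A = g 40) ∨ (A = g 5 * g 40)))) ∧ (∀ A ∈ sb g lZr, (A = 1) ∨ ((A =
    g 5) ∨ ((A = g 6) ∨ (A = g 5 * g 6)))) ∧ (∀ A ∈ sb g lK, (A * A = 1) ∧ ((g 44 * A * g 62 * g 6 =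
    g 6 * g 44 * A * g 62) ∧ ((g 45 * A = A * g 45) → ((g 43 * A = A * g 44 * A * g 62 * g 43) → (A
    = 1))))) ∧ (∀ A ∈ sb g lU, (A * g 26 * (A * g 26) * (A * g 26) * (A * g 26) * (A * g 26) * (A *
    g 26) * (A * g 26) = 1) → (∀ B ∈ sb g lU, (B * g 27 * (B * g 27) * (B * g 27) = 1) → ((A * g 26
    * (B * g 27) * (A * g 26) * (B * g 27) * (A * g 26) * (B * g 27) * (A * g 26) * (B * g 27) * (A
    * g 26) * (B * g 27) * (A * g 26) * (B * g 27) = g 26 * g 27 * g 26 * g 27 * g 26 * g 27 * g 26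
    * g 27 * g 26 * g 27 * g 26 * g 27) → ((A * g 26 * (B * g 27) * (B * g 27) * (A * g 26) * (B * g
    27) * (B * g 27) * (A * g 26) * (B * g 27) * (B * g 27) * (A * g 26) * (B * g 27) * (B * g 27) =
    g 26 * g 27 * g 27 * g 26 * g 27 * g 27 * g 26 * g 27 * g 27 * g 26 * g 27 * g 27) → (∃ F ∈ sb g
    lU, (A * g 26 * F = F * g 26) ∧ (B * g 27 * F = F * g 27)))))) := by
  have h := PM.holds ok subs he dC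
  simp only [fC, Fm.sem, wv_cons, wv_nil, one_mul, upd_apply, Nat.reduceEqDiff, ↓reduceIte,
    exists_eq_right] at h
  exact h

theorem sqV (he : Emb M.m g) :
    ∀ A ∈ sb g lV, A * A = 1 := (sC he).1

theorem sqW (he : Emb M.m g) :
    ∀ A ∈ sb g lW, A * A = 1 := (sC he).2.1

theorem sqU (he : Emb M.m g) :
    ∀ A ∈ sb g lU, A * A = 1 := (sC he).2.2.1

theorem zZ (he : Emb M.m g) :
    ∀ A ∈ sb g lZ, (A = 1) ∨ (A = g 5) := (sC he).2.2.2.1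

theorem zU (he : Emb M.m g) :
    g 5 ∈ sb g lU := (sC he).2.2.2.2.1

theorem bU (he : Emb M.m g) :
    g 59 ∈ sb g lU := (sC he).2.2.2.2.2.1

theorem rel1 (he : Emb M.m g) :
    g 26 * g 27 * g 26 * g 27 * g 26 * g 27 * g 26 * g 27 * g 26 * g 27 * g 26 * g 27 ∈ sb g lU := (sC he).2.2.2.2.2.2.1

theorem rel2 (he : Emb M.m g) :
    g 26 * g 27 * g 27 * g 26 * g 27 * g 27 * g 26 * g 27 * g 27 * g 26 * g 27 * g 27 ∈ sb g lU := (sC he).2.2.2.2.2.2.2.1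

theorem UV (he : Emb M.m g) :
    ∀ A ∈ sb g lU, (A ∈ sb g lV) → (A ∈ sb g lW) := (sC he).2.2.2.2.2.2.2.2.1

theorem uw (he : Emb M.m g) :
    (g 30 ∈ sb g lU) ∧ ((g 30 ∈ sb g lW) ∧ (¬ (g 30 ∈ sb g lV))) := (sC he).2.2.2.2.2.2.2.2.2.1

theorem fzp (he : Emb M.m g) :
    ∀ A ∈ sb g lZp, (A = 1) ∨ ((A = g 5) ∨ ((A = g 40) ∨ (A = g 5 * g 40))) := (sC he).2.2.2.2.2.2.2.2.2.2.1

theorem fzr (he : Emb M.m g) :
    ∀ A ∈ sb g lZr, (A = 1) ∨ ((A = g 5) ∨ ((A = g 6) ∨ (A = g 5 * g 6))) := (sC he).2.2.2.2.2.2.2.2.2.2.2.1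

theorem fix2 (he : Emb M.m g) :
    ∀ A ∈ sb g lK, (A * A = 1) ∧ ((g 44 * A * g 62 * g 6 = g 6 * g 44 * A * g 62) ∧ ((g 45 * A = A * g
    45) → ((g 43 * A = A * g 44 * A * g 62 * g 43) → (A = 1)))) := (sC he).2.2.2.2.2.2.2.2.2.2.2.2.1

theorem h1 (he : Emb M.m g) :
    ∀ A ∈ sb g lU, (A * g 26 * (A * g 26) * (A * g 26) * (A * g 26) * (A * g 26) * (A * g 26) * (A * g
    26) = 1) → (∀ B ∈ sb g lU, (B * g 27 * (B * g 27) * (B * g 27) = 1) → ((A * g 26 * (B * g 27) *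
    (A * g 26) * (B * g 27) * (A * g 26) * (B * g 27) * (A * g 26) * (B * g 27) * (A * g 26) * (B *
    g 27) * (A * g 26) * (B * g 27) = g 26 * g 27 * g 26 * g 27 * g 26 * g 27 * g 26 * g 27 * g 26 *
    g 27 * g 26 * g 27) → ((A * g 26 * (B * g 27) * (B * g 27) * (A * g 26) * (B * g 27) * (B * g
    27) * (A * g 26) * (B * g 27) * (B * g 27) * (A * g 26) * (B * g 27) * (B * g 27) = g 26 * g 27
    * g 27 * g 26 * g 27 * g 27 * g 26 * g 27 * g 27 * g 26 * g 27 * g 27) → (∃ F ∈ sb g lU, (A * g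
    26 * F = F * g 26) ∧ (B * g 27 * F = F * g 27))))) := (sC he).2.2.2.2.2.2.2.2.2.2.2.2.2

theorem sD (he : Emb M.m g) :
    (∀ A ∈ sb g lT, (∀ l ∈ lT, (A * g l = g l * A) ∨ (A * g l = g 5 * g l * A)) → ((A * (g 20 * A * g
    153) = g 20 * A * g 153 * A) → ((A = 1) ∨ ((A = g 5) ∨ ((g 22 * g 5 = g 5 * A * g 22) ∨ ((g 23 *
    g 5 = g 5 * A * g 23) ∨ ((g 24 * g 5 = g 5 * A * g 24) ∨ (g 25 * g 5 = g 5 * A * g 25)))))))) := by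
  have h := PM.holds ok subs he dD
  simp only [fD, Fm.sem, wv_cons, wv_nil, one_mul, upd_apply, Nat.reduceEqDiff, ↓reduceIte,
    exists_eq_right] at h
  simp only [fa_T, fa_V, fa_W]
  exact h

theorem mW (he : Emb M.m g) :
    ∀ A ∈ sb g lT, (∀ l ∈ lT, (A * g l = g l * A) ∨ (A * g l = g 5 * g l * A)) → ((A * (g 20 * A * g
    153) = g 20 * A * g 153 * A) → ((A = 1) ∨ ((A = g 5) ∨ ((g 22 * g 5 = g 5 * A * g 22) ∨ ((g 23 *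
    g 5 = g 5 * A * g 23) ∨ ((g 24 * g 5 = g 5 * A * g 24) ∨ (g 25 * g 5 = g 5 * A * g 25))))))) := (sD he)

theorem sE (he : Emb M.m g) :
    (∀ A ∈ sb g lT, (∀ l ∈ lT, (A * g l = g l * A) ∨ (A * g l = g 5 * g l * A)) → (((g 21 * A * g 154 ∈
    sb g lV) → (g 21 * A * g 154 ∈ sb g lW)) → (A ∈ sb g lU))) ∧ (g 21 * g 154 = 1) ∧ (g 20 * g 153
    = 1) := by
  have h := PM.holds ok subs he dE
  simp only [fE, Fm.sem, wv_cons, wv_nil, one_mul, upd_apply, Nat.reduceEqDiff, ↓reduceIte,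
    exists_eq_right] at h
  simp only [fa_T, fa_V, fa_W]
  exact h

theorem nb (he : Emb M.m g) :
    ∀ A ∈ sb g lT, (∀ l ∈ lT, (A * g l = g l * A) ∨ (A * g l = g 5 * g l * A)) → (((g 21 * A * g 154 ∈
    sb g lV) → (g 21 * A * g 154 ∈ sb g lW)) → (A ∈ sb g lU)) := (sE he).1

theorem dNi (he : Emb M.m g) :
    g 21 * g 154 = 1 := (sE he).2.1

theorem dWi (he : Emb M.m g) :
    g 20 * g 153 = 1 := (sE he).2.2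

theorem sF (he : Emb M.m g) :
    (∀ A ∈ sb g lT, (A * A = 1) → ((∀ l ∈ lV, A * g l = g l * A) ∨ ((∀ l ∈ lW, A * g l = g l * A) ∨ (∃ B
    ∈ sb g lT, (B * A = g 14 * B) ∨ ((B * A = g 2 * B) ∨ ((B * A = g 15 * B) ∨ ((B * A = g 16 * B) ∨
    ((B * A = g 17 * B) ∨ ((B * A = g 18 * B) ∨ (B * A = g 19 * B)))))))))) := by
  have h := PM.holds ok subs he dF
  simp only [fF, Fm.sem, wv_cons, wv_nil, one_mul, upd_apply, Nat.reduceEqDiff, ↓reduceIte,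
    exists_eq_right] at h
  simp only [fa_T, fa_V, fa_W]
  exact h

theorem two (he : Emb M.m g) :
    ∀ A ∈ sb g lT, (A * A = 1) → ((∀ l ∈ lV, A * g l = g l * A) ∨ ((∀ l ∈ lW, A * g l = g l * A) ∨ (∃ B
    ∈ sb g lT, (B * A = g 14 * B) ∨ ((B * A = g 2 * B) ∨ ((B * A = g 15 * B) ∨ ((B * A = g 16 * B) ∨
    ((B * A = g 17 * B) ∨ ((B * A = g 18 * B) ∨ (B * A = g 19 * B))))))))) := (sF he)

theorem zc (he : Emb M.m g) :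
    sb g lT ≤ C1 (g 5) :=
  comF_one (PM.holds ok subs he d_zc)

theorem Dz (he : Emb M.m g) :
    sb g lD ≤ C1 (g 5) :=
  comF_one (PM.holds ok subs he d_Dz)

theorem DUz (he : Emb M.m g) :
    sb g lDU ≤ C1 (g 5) :=
  comF_one (PM.holds ok subs he d_DUz)

theorem ZYy (he : Emb M.m g) :
    sb g lZY ≤ C1 (g 35) :=
  comF_one (PM.holds ok subs he d_ZYy)

theorem T3z (he : Emb M.m g) :
    sb g lT3 ≤ C1 (g 5) :=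
  comF_one (PM.holds ok subs he d_T3z)

theorem nTV (he : Emb M.m g) :
    sb g lT ≤ Ns (sb g lV) :=
  nrmF_le (PM.holds ok subs he d_nTV) rfl (by decide) (by decide)

theorem nTW (he : Emb M.m g) :
    sb g lT ≤ Ns (sb g lW) :=
  nrmF_le (PM.holds ok subs he d_nTW) rfl (by decide) (by decide)

theorem nTT2 (he : Emb M.m g) :
    sb g lT ≤ Ns (sb g lT2) :=
  nrmF_le (PM.holds ok subs he d_nTT2) rfl (by decide) (by decide)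

theorem nTT3 (he : Emb M.m g) :
    sb g lT ≤ Ns (sb g lT3) :=
  nrmF_le (PM.holds ok subs he d_nTT3) rfl (by decide) (by decide)

theorem nNU (he : Emb M.m g) :
    sb g lN ≤ Ns (sb g lU) :=
  nrmF_le (PM.holds ok subs he d_nNU) rfl (by decide) (by decide)

theorem nDU (he : Emb M.m g) :
    sb g lD ≤ Ns (sb g lU) :=
  nrmF_le (PM.holds ok subs he d_nDU) rfl (by decide) (by decide)

theorem nCW (he : Emb M.m g) :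
    sb g lCW ≤ Ns (sb g lW) :=
  nrmF_le (PM.holds ok subs he d_nCW) rfl (by decide) (by decide)

theorem nMV (he : Emb M.m g) :
    sb g lMV ≤ Ns (sb g lV) :=
  nrmF_le (PM.holds ok subs he d_nMV) rfl (by decide) (by decide)

theorem c2 (he : Emb M.m g) :
    sb g lT ≤ Ns (sb g lT2) → sb g lT ≤ Ns (sb g lT2) →
      ∀ a ∈ sb g lT, ∀ b ∈ sb g lT, ⁅a, b⁆ ∈ sb g lT2 :=
  cmF_mem (PM.holds ok subs he d_c2) rfl (by decide) (by decide)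

theorem c3 (he : Emb M.m g) :
    sb g lT2 ≤ Ns (sb g lT3) → sb g lT ≤ Ns (sb g lT3) →
      ∀ a ∈ sb g lT2, ∀ b ∈ sb g lT, ⁅a, b⁆ ∈ sb g lT3 :=
  cmF_mem (PM.holds ok subs he d_c3) rfl (by decide) (by decide)

theorem c4 (he : Emb M.m g) :
    sb g lT3 ≤ Ns (sb g lZ) → sb g lT ≤ Ns (sb g lZ) →
      ∀ a ∈ sb g lT3, ∀ b ∈ sb g lT, ⁅a, b⁆ ∈ sb g lZ :=
  cmF_mem (PM.holds ok subs he d_c4) rfl (by decide) (by decide)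

theorem cb (he : Emb M.m g) :
    sb g lB0 ≤ Ns (sb g lZ) → sb g lT ≤ Ns (sb g lZ) →
      ∀ a ∈ sb g lB0, ∀ b ∈ sb g lT, ⁅a, b⁆ ∈ sb g lZ :=
  cmF_mem (PM.holds ok subs he d_cb) rfl (by decide) (by decide)

theorem mT (he : Emb M.m g) :
    ∀ x ∈ [5, 6, 7, 8, 9, 10, 11, 12, 8, 13, 31, 32, 33, 34, 8, 6, 5, 35, 59, 115, 116, 117, 118, 105, 105, 106, 107, 108, 109, 110, 105, 111, 111, 112, 112, 113, 114], g x ∈ sb g lT :=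
  wF_mem (PM.holds ok subs he d_mT) (by decide)

theorem mV2 (he : Emb M.m g) :
    ∀ x ∈ [35, 123, 124, 125], g x ∈ sb g lV :=
  wF_mem (PM.holds ok subs he d_mV2) (by decide)

theorem mW2 (he : Emb M.m g) :
    ∀ x ∈ [35, 41, 41, 74], g x ∈ sb g lW :=
  wF_mem (PM.holds ok subs he d_mW2) (by decide)

theorem mY (he : Emb M.m g) :
    ∀ x ∈ [92, 93, 94, 95, 96, 97, 98, 99, 100, 101], g x ∈ sb g lY :=
  wF_mem (PM.holds ok subs he d_mY) (by decide)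

theorem mYS (he : Emb M.m g) :
    ∀ x ∈ [52], g x ∈ sb g lYS :=
  wF_mem (PM.holds ok subs he d_mYS) (by decide)

theorem clV (he : Emb M.m g) :
    ∀ x ∈ [5, 6, 7, 8, 9, 10], ∃ c ∈ [0, 130, 131, 132, 133, 134], g c * g 5 * (g c)⁻¹ = g x :=
  clF_cl (PM.holds ok subs he d_clV)

theorem clW (he : Emb M.m g) :
    ∀ x ∈ [5, 6, 11, 12, 8, 13], ∃ c ∈ [0, 130, 135, 136, 132, 137], g c * g 5 * (g c)⁻¹ = g x :=
  clF_cl (PM.holds ok subs he d_clW)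

theorem clI (he : Emb M.m g) :
    ∀ x ∈ [29, 36, 37, 38, 39], ∃ c ∈ [138, 139, 140, 141, 142], g c * g 5 * (g c)⁻¹ = g x :=
  clF_cl (PM.holds ok subs he d_clI)

theorem clU (he : Emb M.m g) :
    ∀ x ∈ [28, 29, 30, 11], ∃ c ∈ [126, 127, 128, 129], g c * g 59 * (g c)⁻¹ = g x :=
  clF_cl (PM.holds ok subs he d_clU)

theorem kzp (he : Emb M.m g) :
    sb g lZp ≤ Cs (sb g lCzp) :=
  comF_le (PM.holds ok subs he d_kzp)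

theorem kzr (he : Emb M.m g) :
    sb g lZr ≤ Cs (sb g lCzr) :=
  comF_le (PM.holds ok subs he d_kzr)

theorem kK (he : Emb M.m g) :
    sb g lK ≤ Cs (sb g lCpr) :=
  comF_le (PM.holds ok subs he d_kK)

theorem kY (he : Emb M.m g) :
    sb g lPR ≤ Cs (sb g lYY) :=
  comF_le (PM.holds ok subs he d_kY)

theorem kF (he : Emb M.m g) :
    sb g lQP ≤ Cs (sb g lF4) :=
  comF_le (PM.holds ok subs he d_kF)

theorem zp1 (he : Emb M.m g) :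
    sb g lCzp ≤ C1 (g 5) :=
  comF_one (PM.holds ok subs he d_zp1)

theorem zp2 (he : Emb M.m g) :
    sb g lCzp ≤ C1 (g 40) :=
  comF_one (PM.holds ok subs he d_zp2)

theorem zr1 (he : Emb M.m g) :
    sb g lCzr ≤ C1 (g 5) :=
  comF_one (PM.holds ok subs he d_zr1)

theorem zr2 (he : Emb M.m g) :
    sb g lCzr ≤ C1 (g 6) :=
  comF_one (PM.holds ok subs he d_zr2)

theorem pr1c (he : Emb M.m g) :
    sb g lCpr ≤ C1 (g 40) :=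
  comF_one (PM.holds ok subs he d_pr1c)

theorem pr2c (he : Emb M.m g) :
    sb g lCpr ≤ C1 (g 6) :=
  comF_one (PM.holds ok subs he d_pr2c)

theorem aq1 (he : Emb M.m g) :
    sb g lCaq ≤ C1 (g 29) :=
  comF_one (PM.holds ok subs he d_aq1)

theorem aq2 (he : Emb M.m g) :
    sb g lCaq ≤ C1 (g 36) :=
  comF_one (PM.holds ok subs he d_aq2)

theorem eV (he : Emb M.m g) (hN : Nat.card (sb g lI) = 244823040) :
    Nat.card ↥(sb g lI ⊓ Cs (sb g lV)) = 64 := emb_cen ok he hN d_eV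

theorem eW (he : Emb M.m g) (hN : Nat.card (sb g lI) = 244823040) :
    Nat.card ↥(sb g lI ⊓ Cs (sb g lW)) = 64 := emb_cen ok he hN d_eW

theorem eT (he : Emb M.m g) (hN : Nat.card (sb g lI) = 244823040) :
    Nat.card ↥(sb g lI ⊓ Cs (sb g lT)) = 2 := emb_cen ok he hN d_eT

theorem eU (he : Emb M.m g) (hN : Nat.card (sb g lI) = 244823040) :
    Nat.card ↥(sb g lI ⊓ Cs (sb g lU)) = 16 := emb_cen ok he hN d_eU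

theorem eZp (he : Emb M.m g) (hN : Nat.card (sb g lI) = 244823040) :
    Nat.card ↥(sb g lI ⊓ Cs (sb g lCzp)) = 4 := emb_cen ok he hN d_eZp

theorem eZr (he : Emb M.m g) (hN : Nat.card (sb g lI) = 244823040) :
    Nat.card ↥(sb g lI ⊓ Cs (sb g lCzr)) = 4 := emb_cen ok he hN d_eZr

theorem eK (he : Emb M.m g) (hN : Nat.card (sb g lI) = 244823040) :
    Nat.card ↥(sb g lI ⊓ Cs (sb g lCpr)) = 16 := emb_cen ok he hN d_eK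

theorem eY (he : Emb M.m g) (hN : Nat.card (sb g lI) = 244823040) :
    Nat.card ↥(sb g lI ⊓ Cs (sb g lYY)) = 2 := emb_cen ok he hN d_eY

theorem eF (he : Emb M.m g) (hN : Nat.card (sb g lI) = 244823040) :
    Nat.card ↥(sb g lI ⊓ Cs (sb g lF4)) = 2 := emb_cen ok he hN d_eF

theorem eX0 (he : Emb M.m g) (hN : Nat.card (sb g lT) = 1024) :
    Nat.card ↥(sb g lT ⊓ Cs (sb g lX0)) = 64 := emb_cen ok he hN d_eX0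

theorem eX1 (he : Emb M.m g) (hN : Nat.card (sb g lT) = 1024) :
    Nat.card ↥(sb g lT ⊓ Cs (sb g lX1)) = 128 := emb_cen ok he hN d_eX1

theorem eX2 (he : Emb M.m g) (hN : Nat.card (sb g lT) = 1024) :
    Nat.card ↥(sb g lT ⊓ Cs (sb g lX2)) = 128 := emb_cen ok he hN d_eX2

theorem eX3 (he : Emb M.m g) (hN : Nat.card (sb g lT) = 1024) :
    Nat.card ↥(sb g lT ⊓ Cs (sb g lX3)) = 128 := emb_cen ok he hN d_eX3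

theorem eX4 (he : Emb M.m g) (hN : Nat.card (sb g lT) = 1024) :
    Nat.card ↥(sb g lT ⊓ Cs (sb g lX4)) = 64 := emb_cen ok he hN d_eX4

theorem eX5 (he : Emb M.m g) (hN : Nat.card (sb g lT) = 1024) :
    Nat.card ↥(sb g lT ⊓ Cs (sb g lX5)) = 64 := emb_cen ok he hN d_eX5

theorem eX6 (he : Emb M.m g) (hN : Nat.card (sb g lT) = 1024) :
    Nat.card ↥(sb g lT ⊓ Cs (sb g lX6)) = 128 := emb_cen ok he hN d_eX6

theorem lowD (he : Emb M.m g) : 21504 ≤ Nat.card (sb g lD) := emb_low ok he d_lowD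

theorem lowN (he : Emb M.m g) : 322560 ≤ Nat.card (sb g lN) := emb_low ok he d_lowN

theorem cardT (he : Emb M.m g) : Nat.card (sb g lT) = 1024 :=
  PM.card_of_emb ok subs he 0

theorem cardV (he : Emb M.m g) : Nat.card (sb g lV) = 64 :=
  PM.card_of_emb ok subs he 1

theorem cardW (he : Emb M.m g) : Nat.card (sb g lW) = 64 :=
  PM.card_of_emb ok subs he 2

theorem cardU (he : Emb M.m g) : Nat.card (sb g lU) = 16 :=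
  PM.card_of_emb ok subs he 3

theorem cardT2 (he : Emb M.m g) : Nat.card (sb g lT2) = 64 :=
  PM.card_of_emb ok subs he 4

theorem cardT3 (he : Emb M.m g) : Nat.card (sb g lT3) = 8 :=
  PM.card_of_emb ok subs he 5

theorem cardZ (he : Emb M.m g) : Nat.card (sb g lZ) = 2 :=
  PM.card_of_emb ok subs he 6

theorem cardZp (he : Emb M.m g) : Nat.card (sb g lZp) = 4 :=
  PM.card_of_emb ok subs he 7

theorem cardZr (he : Emb M.m g) : Nat.card (sb g lZr) = 4 :=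
  PM.card_of_emb ok subs he 8

theorem cardK (he : Emb M.m g) : Nat.card (sb g lK) = 16 :=
  PM.card_of_emb ok subs he 9

end Cfsg.Lib.StdM.M24
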